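import Cfsg.Agent.Omega.Assembly
import Cfsg.Prelude.Def_Spor_J1

/-!
# S1731: strongly quasithin simple groups which are not of even characteristic

* `SQT` : K-proper simple groups of characteristic 2 type, sectional 2-rank at least 5, `m_p ≤ 2` for all odd
  primes `p`, are known (project SQT; follows from `EvenHalf`).
* `Sec` : simple sections of strongly quasithin groups are strongly quasithin.
* `Rows` : the table (only the list of S1765).
* `s1731` : the literal S1731 from `SQT`, S1765, `RankFour`, `Sec`, `Rows`.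
-/

set_option autoImplicit false

namespace Cfsg.Agent.Omega.Quasithin

open Cfsg Cfsg.Agent.Omega.Assembly

universe u

/-- `m_p(G) ≤ 2` for all odd primes `p`. -/
def StrQ (G : Type u) [Group G] : Prop := ∀ p : ℕ, p.Prime → p ≠ 2 → PRankLE p 2 G

/-- **Project SQT.** -/
def SQT : Prop :=
  ∀ (G : Type u) [Group G] [Finite G] [IsSimpleGroup G], ¬ IsMulCommutative G → IsKProper G →
    IsCharacteristicTwoType G → ¬ SectionalPRankLE 2 4 G → StrQ G → IsKnownSimple' G

theorem sqt_of_evenHalf (h : EvenHalf.{u}) : SQT.{u} := fun G _ _ _ h1 h2 h3 h4 _ => h G h1 h2 h3 h4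

/-- **Theorem SEC** for one odd prime. -/
def Sec : Prop :=
  ∀ (p : ℕ) [Fact p.Prime], p ≠ 2 → ∀ (H : Type u) [Group H] [Finite H] (N : Subgroup H) [N.Normal],
    PRankLE p 2 H → IsSimpleGroup (H ⧸ N) → ¬ IsMulCommutative (H ⧸ N) → PRankLE p 2 (H ⧸ N)

/-- The members of `m_p ≤ 2` among the groups of Lie type in characteristic `p`. -/
def Small (p : ℕ) (G : Type u) [Group G] : Prop :=
  ∃ (F : Type) (_ : Field F) (_ : Fintype F),
    ((Fintype.card F = p ∨ Fintype.card F = p ^ 2) ∧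
        Nonempty (G ≃* Matrix.ProjectiveSpecialLinearGroup (Fin 2) F)) ∨
      (Fintype.card F = p ∧ Nonempty (G ≃* Matrix.ProjectiveSpecialLinearGroup (Fin 3) F)) ∨
      (Fintype.card F = p ^ 2 ∧ Nonempty (G ≃* PSU 3 F p))

/-- Row: the groups of type `P` in odd characteristic `p` with `m_p ≤ 2` are in `Small p`. -/
def LieRow (P : ℕ → ∀ (X : Type u) [Group X], Prop) : Prop :=
  ∀ (p : ℕ), p.Prime → p ≠ 2 → ∀ (G : Type u) [Group G] [Finite G], P p G → PRankLE p 2 G → Small p G

/-- Row: the groups of type `P` have 3-rank at least 3. -/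
def ThreeRow (P : ∀ (X : Type u) [Group X], Prop) : Prop :=
  ∀ (G : Type u) [Group G] [Finite G], P G → ¬ PRankLE 3 2 G

/-- Row: the groups of type `P` are of even characteristic. -/
def EvenRow (P : ∀ (X : Type u) [Group X], Prop) : Prop :=
  ∀ (G : Type u) [Group G] [Finite G], P G → IsOfEvenCharacteristic G

/-- **The table for S1731.** -/
structure Rows : Prop where
  alt : ∀ n : ℕ, 9 ≤ n → ¬ PRankLE 3 2 (alternatingGroup (Fin n))
  psl : LieRow.{u} (fun p X _ => IsPSLChar p X)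
  psp : LieRow.{u} (fun p X _ => IsPSpChar p X)
  psu : LieRow.{u} (fun p X _ => IsPSUChar p X)
  omegaOdd : LieRow.{u} (fun p X _ => IsPOmegaOddChar p X)
  omegaPlus : LieRow.{u} (fun p X _ => IsPOmegaPlusChar p X)
  omegaMinus : LieRow.{u} (fun p X _ => IsPOmegaMinusChar p X)
  chev : LieRow.{u} (fun p X _ => IsExceptionalChevChar p X)
  twisted : LieRow.{u} (fun p X _ => IsTwistedE6D4Char p X)
  ree : LieRow.{u} (fun p X _ => p = 3 ∧ Lie.IsoRee X)
  m12 : EvenRow.{u} (fun X _ => Spor.IsoM12 X)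
  j2 : EvenRow.{u} (fun X _ => Spor.IsoJ2 X)
  hs : EvenRow.{u} (fun X _ => Spor.IsoHS X)
  he : EvenRow.{u} (fun X _ => Spor.IsoHe X)
  ru : EvenRow.{u} (fun X _ => Spor.IsoRu X)
  mcl : ThreeRow.{u} (fun X _ => Spor.IsoMcL X)
  ly : ThreeRow.{u} (fun X _ => Spor.IsoLy X)
  on : ThreeRow.{u} (fun X _ => Spor.IsoON X)
  suz : ThreeRow.{u} (fun X _ => Spor.IsoSuz X)
  co3 : ThreeRow.{u} (fun X _ => Spor.IsoCo3 X)
  co1 : ThreeRow.{u} (fun X _ => Spor.IsoCo1 X)
  fi22 : ThreeRow.{u} (fun X _ => Spor.IsoFi22 X)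
  fi23 : ThreeRow.{u} (fun X _ => Spor.IsoFi23 X)
  fi24 : ThreeRow.{u} (fun X _ => Spor.IsoFi24' X)
  hn : ThreeRow.{u} (fun X _ => Spor.IsoHN X)
  b : ThreeRow.{u} (fun X _ => Spor.IsoB X)
  m : ThreeRow.{u} (fun X _ => Spor.IsoM X)

/-! ### elementary facts on ranks -/

theorem prankLE_congr {G H : Type*} [Group G] [Group H] {p k : ℕ} (e : G ≃* H) (h : PRankLE p k G) :
    PRankLE p k H := by
  intro A hA hp
  have hc : ∀ a ∈ A, ∀ b ∈ A, a * b = b * a := fun a ha b hb => by
    have := hA.is_comm.comm (⟨a, ha⟩ : A) ⟨b, hb⟩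
    exact congrArg Subtype.val this
  have h1 := h (A.map e.symm.toMonoidHom) ⟨⟨by
    rintro ⟨_, x, hx, rfl⟩ ⟨_, y, hy, rfl⟩
    apply Subtype.ext
    change e.symm x * e.symm y = e.symm y * e.symm x
    rw [← map_mul, ← map_mul, hc x hx y hy]⟩⟩ (by
    rintro _ ⟨x, hx, rfl⟩
    change (e.symm x) ^ p = 1
    rw [← map_pow, hp x hx, map_one])
  rwa [Subgroup.card_map_of_injective e.symm.injective] at h1

theorem prankLE_subgroup {G : Type*} [Group G] {p k : ℕ} (h : PRankLE p k G) (H : Subgroup G) :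
    PRankLE p k H := by
  intro A hA hp
  have hc : ∀ a ∈ A, ∀ b ∈ A, a * b = b * a := fun a ha b hb => by
    have := hA.is_comm.comm (⟨a, ha⟩ : A) ⟨b, hb⟩
    exact congrArg Subtype.val this
  have h1 := h (A.map H.subtype) ⟨⟨by
    rintro ⟨_, x, hx, rfl⟩ ⟨_, y, hy, rfl⟩
    apply Subtype.ext
    change (x : G) * y = y * x
    rw [← Subgroup.coe_mul, ← Subgroup.coe_mul, hc x hx y hy]⟩⟩ (by
    rintro _ ⟨x, hx, rfl⟩
    change (x : G) ^ p = 1
    rw [← Subgroup.coe_pow, hp x hx, Subgroup.coe_one])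
  rwa [Subgroup.card_map_of_injective H.subtype_injective] at h1

/-- **Simple sections of strongly quasithin groups are strongly quasithin.** -/
theorem strQ_section (hsec : Sec.{u}) {G : Type u} [Group G] [Finite G] (hG : StrQ G) (H : Subgroup G)
    (K : Subgroup H) (N : Subgroup K) [N.Normal] (hs : IsSimpleGroup (K ⧸ N))
    (hc : ¬ IsMulCommutative (K ⧸ N)) : StrQ (K ⧸ N) := by
  intro p hp hp2
  have : Fact p.Prime := ⟨hp⟩
  exact hsec p hp2 K N (prankLE_subgroup (prankLE_subgroup (hG p hp hp2) H) K) hs hc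

/-! ### the induction -/

theorem known_aux (hO : OddKnown.{u}) (hR : RankFour.{u}) (hE : SQT.{u}) (hsec : Sec.{u}) :
    ∀ (n : ℕ) (G : Type u) [Group G] [Finite G], IsSimpleGroup G → ¬ IsMulCommutative G → StrQ G →
      Nat.card G = n → IsKnownSimple' G ∧ IsKProper G := by
  intro n
  induction n using Nat.strong_induction_on with
  | _ n ih =>
    intro G _ _ hs hc hq hn
    have hK : IsKProper G := by
      intro H hH K N _ hs' hc'
      have h1 : Nat.card (K ⧸ N) ≤ Nat.card K := by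
        rw [← Subgroup.index_eq_card]
        exact Nat.le_of_dvd Nat.card_pos N.index_dvd_card
      have h2 : Nat.card K ≤ Nat.card H := Subgroup.card_le_card_group K
      have h3 : Nat.card H < Nat.card G := by
        refine lt_of_le_of_ne (Subgroup.card_le_card_group H) fun h => hH ?_
        exact Subgroup.eq_top_of_card_eq H h
      exact (ih _ (hn ▸ lt_of_le_of_lt (h1.trans h2) h3) (K ⧸ N) hs' hc'
        (strQ_section hsec hq H K N hs' hc') rfl).1
    refine ⟨?_, hK⟩
    have := hs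
    by_cases h2 : IsCharacteristicTwoType G
    · by_cases h4 : SectionalPRankLE 2 4 G
      · exact hR G hc hK h2 h4
      · exact hE G hc hK h2 h4 hq
    · exact hO G hc hK h2

/-- **Strongly quasithin simple groups are K-proper (and known).** -/
theorem kproper (hO : OddKnown.{u}) (hR : RankFour.{u}) (hE : SQT.{u}) (hsec : Sec.{u}) (G : Type u)
    [Group G] [Finite G] [hs : IsSimpleGroup G] (hc : ¬ IsMulCommutative G) (hq : StrQ G) : IsKProper G :=
  (known_aux hO hR hE hsec _ G hs hc hq rfl).2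

/-- A simple group of characteristic 2 type is of even characteristic. -/
theorem evenChar_of_charTwoType {G : Type u} [Group G] (h : IsCharacteristicTwoType G) :
    IsOfEvenCharacteristic G := by
  intro M hM _
  obtain ⟨T, hT, hT1, rfl⟩ := hM
  exact h.2 T hT hT1

/-! ### the literal S1731 -/

/-- the Lie rows together -/
theorem Rows.lie (R : Rows.{u}) {p : ℕ} (hp : p.Prime) (hp2 : p ≠ 2) {G : Type u} [Group G] [Finite G]
    (h : IsLieTypeChar p G) (hq : PRankLE p 2 G) : Small p G := by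
  rcases h with h | h | h | h | h | h | h | h | h | h | h
  · exact R.psl p hp hp2 G h hq
  · exact R.psp p hp hp2 G h hq
  · exact R.psu p hp hp2 G h hq
  · exact R.omegaOdd p hp hp2 G h hq
  · exact R.omegaPlus p hp hp2 G h hq
  · exact R.omegaMinus p hp hp2 G h hq
  · exact R.chev p hp hp2 G h hq
  · exact R.twisted p hp hp2 G h hq
  · exact absurd h.1 hp2
  · exact absurd h.1 hp2
  · exact R.ree p hp hp2 G h hq

/-- **S1731** from its parts. -/
theorem s1731 (hO : OddLit.{u}) (hR : RankFour.{u}) (hS : SQT.{u}) (hsec : Sec.{u}) (R : Rows.{u})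
    {G : Type u} [Group G] [Finite G] [hs : IsSimpleGroup G]
    (hG : ¬ IsMulCommutative G) (hq : ∀ p : ℕ, p.Prime → p ≠ 2 → Cfsg.PRankLE p 2 G)
    (hE : ¬ Cfsg.IsOfEvenCharacteristic G) :
    Nonempty (G ≃* alternatingGroup (Fin 7)) ∨ Cfsg.Spor.IsoJ1 G ∨
      ∃ p : ℕ, p.Prime ∧ 5 ≤ p ∧ ∃ (F : Type) (_ : Field F) (_ : Fintype F),
        ((Fintype.card F = p ∨ Fintype.card F = p ^ 2) ∧ Nonempty (G ≃* Matrix.ProjectiveSpecialLinearGroup (Fin 2) F)) ∨
        (Fintype.card F = p ∧ Nonempty (G ≃* Matrix.ProjectiveSpecialLinearGroup (Fin 3) F)) ∨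
        (Fintype.card F = p ^ 2 ∧ Nonempty (G ≃* Cfsg.PSU 3 F p)) := by
  have hK : IsKProper G := kproper (oddKnown hO) hR hS hsec G hG hq
  have h2 : ¬ IsCharacteristicTwoType G := fun h => hE (evenChar_of_charTwoType h)
  have h3 : PRankLE 3 2 G := hq 3 Nat.prime_three (by norm_num)
  rcases hO G hG hK h2 with ⟨⟨p, hp, hp2, h⟩, hx2, hx3, hxu⟩ | ⟨n, hn, ⟨e⟩⟩ | h | h | h | h | h | h | h |
      h | h | h | h | h | h | h | h | h | h | h
  · right; right
    obtain ⟨F, iF, iFt, h⟩ := R.lie hp hp2 h (hq p hp hp2)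
    by_cases hp3 : p = 3
    · exfalso
      subst hp3
      rcases h with ⟨h, e⟩ | ⟨h, e⟩ | ⟨h, e⟩
      · apply hx2
        refine ⟨F, iF, iFt, ?_, e⟩
        rcases h with h | h
        · left
          rw [h]
          exact ⟨Nat.prime_three, Or.inl ⟨2, by norm_num⟩⟩
        · right
          rw [h]
          norm_num
      · exact hx3 ⟨F, iF, iFt, h, Or.inl e⟩
      · exact hxu ⟨F, iF, iFt, h, Or.inl e⟩
    · refine ⟨p, hp, ?_, F, iF, iFt, h⟩
      have h4 : p ≠ 4 := by rintro rfl; exact absurd hp (by decide)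
      have := hp.two_le
      omega
  · rcases hn with rfl | hn
    · exact Or.inl ⟨e⟩
    · exact absurd (prankLE_congr e h3) (R.alt n hn)
  · exact absurd (R.m12 G h) hE
  · exact Or.inr (Or.inl h)
  · exact absurd (R.j2 G h) hE
  · exact absurd h3 (R.mcl G h)
  · exact absurd h3 (R.ly G h)
  · exact absurd (R.hs G h) hE
  · exact absurd (R.he G h) hE
  · exact absurd h3 (R.on G h)
  · exact absurd h3 (R.suz G h)
  · exact absurd (R.ru G h) hE
  · exact absurd h3 (R.co3 G h)
  · exact absurd h3 (R.co1 G h)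
  · exact absurd h3 (R.fi22 G h)
  · exact absurd h3 (R.fi23 G h)
  · exact absurd h3 (R.fi24 G h)
  · exact absurd h3 (R.hn G h)
  · exact absurd h3 (R.b G h)
  · exact absurd h3 (R.m G h)

end Cfsg.Agent.Omega.Quasithin
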