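import Cfsg.Agent.Omega.Quasithin.TableOf
import Cfsg.Agent.Omega.Quasithin.Row.Ru
import Cfsg.Agent.S1696
import Cfsg.Agent.S1697
import Cfsg.Agent.S1698
import Cfsg.Agent.S1699
import Cfsg.Agent.S1701
import Cfsg.Agent.S1704
import Cfsg.Agent.S1705

/-!
# The table for S1731 (helper399)
-/

set_option autoImplicit false

namespace Cfsg.Agent.Omega.Quasithin

universe u

/-- the orders -/
theorem orders : Orders where
  fi22 := S1696.result
  fi23 := S1697.result
  fi24 := S1698.result
  on := S1699.result
  hn := S1701.result
  b := S1704.result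
  m := S1705.result

/-- **The table for S1731.** -/
theorem rows : Rows.{u} := rows_of orders fun G _ _ hG => Ru.row_ru G hG

end Cfsg.Agent.Omega.Quasithin
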