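import Cfsg.Agent.Omega.Quasithin.Rows
import Cfsg.Agent.Omega.Quasithin.Row.Alt
import Cfsg.Agent.Omega.Quasithin.Row.Psl
import Cfsg.Agent.Omega.Quasithin.Row.Psp
import Cfsg.Agent.Omega.Quasithin.Row.Psu
import Cfsg.Agent.Omega.Quasithin.Row.OmegaOdd
import Cfsg.Agent.Omega.Quasithin.Row.OmegaPlus
import Cfsg.Agent.Omega.Quasithin.Row.OmegaMinus
import Cfsg.Agent.Omega.Quasithin.Row.Chev
import Cfsg.Agent.Omega.Quasithin.Row.MTwelve
import Cfsg.Agent.Omega.Quasithin.Row.J2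
import Cfsg.Agent.Omega.Quasithin.Row.HS
import Cfsg.Agent.Omega.Quasithin.Row.He
import Cfsg.Agent.Omega.Quasithin.Row.McL
import Cfsg.Agent.Omega.Quasithin.Row.Ly
import Cfsg.Agent.Omega.Quasithin.Row.ON
import Cfsg.Agent.Omega.Quasithin.Row.Suz
import Cfsg.Agent.Omega.Quasithin.Row.Cox
import Cfsg.Agent.Omega.Quasithin.Row.HN

/-!
# The table for S1731 (helper399)

`rows_of` : all rows, from the orders of the presented groups `Fi22`, `Fi23`, `Fi24'`, `ON`, `HN`, `B`, `M`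
(`S1696`-`S1699`, `S1701`, `S1704`, `S1705`) and the row `Ru`.
-/

set_option autoImplicit false

namespace Cfsg.Agent.Omega.Quasithin

open Cfsg

universe u

/-- the orders of presented sporadic groups used in the table -/
structure Orders : Prop where
  fi22 : Cfsg.IsFi22 Spor.Fi22
  fi23 : Cfsg.IsFi23 Spor.Fi23
  fi24 : Cfsg.IsFi24' Spor.Fi24'
  on : Cfsg.IsON Spor.ON
  hn : Cfsg.IsHN Spor.HN
  b : Cfsg.IsB Spor.BabyMonster
  m : Cfsg.IsM Spor.Monster

/-- **The table for S1731** from the orders and the row `Ru`. -/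
theorem rows_of (h : Orders) (hru : EvenRow.{u} (fun X _ => Spor.IsoRu X)) : Rows.{u} where
  alt := row_alt
  psl := row_psl
  psp := row_psp
  psu := row_psu
  omegaOdd := Row.OmegaOdd.row_omegaOdd
  omegaPlus := Row.OmegaPlus.row_omegaPlus
  omegaMinus := Row.OmegaMinus.row_omegaMinus
  chev := Row.Chev.row_chev
  twisted := Row.Chev.row_twisted
  ree := Row.Chev.row_ree
  m12 := fun G _ _ hG => M12.row_m12 G hG
  j2 := Row.J2.row_j2
  hs := Row.HS.row_hs
  he := fun G _ _ hG => He.row_he G hG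
  ru := hru
  mcl := fun G _ _ hG => Row.McL.row_mcl G hG
  ly := fun G _ _ hG => Row.Ly.row_ly G hG
  on := fun G _ _ hG => Row.ON.row_on h.on G hG
  suz := fun G _ _ hG => Row.Suz.row_suz G hG
  co3 := fun G _ _ hG => Row.McL.row_co3 G hG
  co1 := fun G _ _ hG => Row.McL.row_co1 G hG
  fi22 := fun G _ _ hG => Row.Cox.row_fi22 h.fi22 G hG
  fi23 := fun G _ _ hG => Row.Cox.row_fi23 h.fi23 G hG
  fi24 := fun G _ _ hG => Row.Cox.row_fi24' h.fi24 G hG
  hn := fun G _ _ hG => Row.HN.row_hn h.hn G hG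
  b := fun G _ _ hG => Row.Cox.row_b h.b G hG
  m := fun G _ _ hG => Row.Cox.row_m h.m G hG

end Cfsg.Agent.Omega.Quasithin
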